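import Groth.Prelude.Def_ShStab
import Groth.Prelude.Def_ParBun
import Groth.Agent.CurveDeg.Twist
import Groth.Agent.QCohBase.CohProps
import Groth.Agent.TensorMod.Invertible

/-!
# Additivity of Hilbert polynomials
-/

universe u

open CategoryTheory CategoryTheory.Limits AlgebraicGeometry Polynomial

namespace Groth.Agent.ParHilbLib

variable {k : Type u} [Field k] {X : Scheme.{u}} [X.Over (Spec (CommRingCat.of k))]
  [IsProper (X ↘ Spec (CommRingCat.of k))] {L : X.Modules}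

theorem euler_twist_add (hL : PicF.IsInvertible L) (S : ShortComplex X.Modules) (hS : S.ShortExact)
    (h₁ : Coh.IsCoh S.X₁) (h₂ : Coh.IsCoh S.X₂) (h₃ : Coh.IsCoh S.X₃) (m : ℕ) :
    Curv2.euler k X (ShStab.twist X L S.X₂ m) =
      Curv2.euler k X (ShStab.twist X L S.X₁ m) + Curv2.euler k X (ShStab.twist X L S.X₃ m) := by
  have hc : ∀ G : X.Modules, Curv2.euler k X (ShStab.twist X L G m) =
      Curv2.euler k X (CohB1.tensorMod (CohB1.tensorPow L m) G) :=
    fun G => CurveDeg.euler_congr (TensorMod.commIso _ _)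
  rw [hc, hc, hc]
  exact CurveDeg.euler_tensorLeft_additive
    (TensorMod.isFinLocFreeOfRank_one (TensorMod.isInvertible_tensorPow hL m)) S hS h₁ h₂ h₃

theorem euler_twist_cokernel (hL : PicF.IsInvertible L) {G E : X.Modules} (i : G ⟶ E) [Mono i]
    (hG : Coh.IsCoh G) (hE : Coh.IsCoh E) (m : ℕ) :
    Curv2.euler k X (ShStab.twist X L E m) =
      Curv2.euler k X (ShStab.twist X L G m) + Curv2.euler k X (ShStab.twist X L (cokernel i) m) := by
  let S : ShortComplex X.Modules := ShortComplex.mk i (cokernel.π i) (cokernel.condition i)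
  haveI : Mono S.f := inferInstanceAs (Mono i)
  haveI : Epi S.g := inferInstanceAs (Epi (cokernel.π i))
  exact euler_twist_add hL S (ShortComplex.ShortExact.mk
    (ShortComplex.exact_of_g_is_cokernel _ (cokernelIsCokernel i))) hG hE
    (QCohBase.isCoh_cokernel i hG.1 hE) m

theorem hilb_cokernel (hL : PicF.IsInvertible L) {G E : X.Modules} (i : G ⟶ E) [Mono i]
    (hG : Coh.IsCoh G) (hE : Coh.IsCoh E) {P H : ℚ[X]} (hP : ShStab.IsHilbPoly k X L E P)
    (hH : ShStab.IsHilbPoly k X L (cokernel i) H) (m : ℕ) :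
    ((Curv2.euler k X (ShStab.twist X L G m) : ℤ) : ℚ) = P.eval (m : ℚ) - H.eval (m : ℚ) := by
  rw [← hP m, ← hH m, euler_twist_cokernel hL i hG hE m]
  push_cast
  ring

theorem abel {l : ℕ} (w : Fin (l + 2) → ℝ) (h : Fin (l + 2) → ℝ) (p : ℝ) (h0 : h 0 = 0) :
    (p - h (Fin.last (l + 1))) + ∑ j : Fin (l + 1), w j.castSucc * ((p - h j.castSucc) - (p - h j.succ)) =
      p - h (Fin.last (l + 1)) + (w (Fin.last (l + 1)) * h (Fin.last (l + 1))) -
        ∑ j : Fin (l + 1), (w j.succ - w j.castSucc) * h j.succ := by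
  have e1 := Fin.sum_univ_succ (fun i => w i * h i)
  have e2 := Fin.sum_univ_castSucc (fun i => w i * h i)
  simp only [h0, mul_zero, zero_add] at e1
  have e3 : ∑ j : Fin (l + 1), (w j.succ - w j.castSucc) * h j.succ =
      ∑ j : Fin (l + 1), w j.succ * h j.succ - ∑ j : Fin (l + 1), w j.castSucc * h j.succ := by
    rw [← Finset.sum_sub_distrib]
    exact Finset.sum_congr rfl fun j _ => by ring
  have e4 : ∑ j : Fin (l + 1), w j.castSucc * ((p - h j.castSucc) - (p - h j.succ)) =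
      ∑ j : Fin (l + 1), w j.castSucc * h j.succ - ∑ j : Fin (l + 1), w j.castSucc * h j.castSucc := by
    rw [← Finset.sum_sub_distrib]
    exact Finset.sum_congr rfl fun j _ => by ring
  rw [e3, e4]
  linarith

theorem parHilb_eq (hL : PicF.IsInvertible L) {E : X.Modules} (hE : Coh.IsCoh E) (𝓔 : ParSh.Str E)
    (hcoh : ∀ j, Coh.IsCoh ((𝓔.pieceX j : Subobject E) : X.Modules))
    (P : ℚ[X]) (hP : ShStab.IsHilbPoly k X L E P) (H : Fin (𝓔.l + 2) → ℚ[X])
    (hH : ∀ j, ShStab.IsHilbPoly k X L (cokernel (𝓔.pieceX j).arrow) (H j)) (m : ℕ) :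
    𝓔.parHilb k X L m =
      ((P.eval (m : ℚ) : ℚ) : ℝ) -
        ∑ j : Fin (𝓔.l + 1), (𝓔.wtX j.succ - 𝓔.wtX j.castSucc) * (((H j.succ).eval (m : ℚ) : ℚ) : ℝ) := by
  have key : ∀ j : Fin (𝓔.l + 2),
      (Curv2.euler k X (ShStab.twist X L ((𝓔.pieceX j : Subobject E) : X.Modules) m) : ℝ) =
        ((P.eval (m : ℚ) : ℚ) : ℝ) - (((H j).eval (m : ℚ) : ℚ) : ℝ) := fun j => by
    have h := hilb_cokernel hL (𝓔.pieceX j).arrow (hcoh j) hE hP (hH j) m
    exact_mod_cast h
  have h0 : (((H 0).eval (m : ℚ) : ℚ) : ℝ) = 0 := by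
    have htop : 𝓔.pieceX 0 = ⊤ := (𝓔.pieceX_castSucc 0).trans 𝓔.piece_zero
    haveI : IsIso (𝓔.pieceX 0).arrow := (Subobject.isIso_arrow_iff_eq_top _).2 htop
    have hz : IsZero (cokernel (𝓔.pieceX 0).arrow) := isZero_cokernel_of_epi _
    have h1 := euler_twist_cokernel (k := k) hL (𝓔.pieceX 0).arrow (hcoh 0) hE m
    have h3 : Curv2.euler k X (ShStab.twist X L E m) =
        Curv2.euler k X (ShStab.twist X L ((𝓔.pieceX 0 : Subobject E) : X.Modules) m) :=
      CurveDeg.euler_congr (((DCoh.tensorBi (X := X)).mapIso (asIso (𝓔.pieceX 0).arrow).symm).app _)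
    have h4 : Curv2.euler k X (ShStab.twist X L (cokernel (𝓔.pieceX 0).arrow) m) = 0 := by omega
    have h5 := hH 0 m
    rw [h4] at h5
    rw [← h5]
    norm_num
  have h := abel 𝓔.wtX (fun j => (((H j).eval (m : ℚ) : ℚ) : ℝ)) ((P.eval (m : ℚ) : ℚ) : ℝ) h0
  simp only [ParSh.Str.wtX_last, one_mul, sub_add_cancel] at h
  simp only [ParSh.Str.parHilb, ParSh.Str.parSum]
  refine Eq.trans ?_ h
  rw [← 𝓔.pieceX_last, key]
  congr 1
  refine Finset.sum_congr rfl fun j _ => ?_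
  rw [← 𝓔.pieceX_castSucc j, key, key, ParSh.Str.wtX_castSucc]

end Groth.Agent.ParHilbLib
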