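import Groth.Agent.ParHilbLib.Basic

/-!
# Additivity of parabolic Hilbert functions in parabolic extensions
-/

universe u

open CategoryTheory CategoryTheory.Limits AlgebraicGeometry

namespace Groth.Agent.ParHilbLib

variable {k : Type u} [Field k] {X : Scheme.{u}} [X.Over (Spec (CommRingCat.of k))]
  [IsProper (X ↘ Spec (CommRingCat.of k))] {L : X.Modules}

theorem euler_twist_subobject (hL : PicF.IsInvertible L) {F E G : X.Modules} (hF : Coh.IsCoh F) (hG : Coh.IsCoh G)
    (i : F ⟶ E) (p : E ⟶ G) (w : i ≫ p = 0) (hS : (ShortComplex.mk i p w).ShortExact)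
    (P : Subobject E) (hP : Coh.IsCoh (P : X.Modules)) (m : ℕ) :
    Curv2.euler k X (ShStab.twist X L (P : X.Modules) m) =
      Curv2.euler k X (ShStab.twist X L (((Subobject.pullback i).obj P : Subobject F) : X.Modules) m) +
      Curv2.euler k X (ShStab.twist X L ((imageSubobject (P.arrow ≫ p) : Subobject G) : X.Modules) m) := by
  have := CurveDeg.isNoetherian_of_proper (k := k) (X := X)
  have : Mono i := hS.mono_f
  have hpb := Subobject.isPullback i P
  let T : ShortComplex X.Modules := ShortComplex.mk (Subobject.pullbackπ i P) (factorThruImageSubobject (P.arrow ≫ p)) (by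
    rw [← cancel_mono (imageSubobject (P.arrow ≫ p)).arrow, Category.assoc, imageSubobject_arrow_comp, zero_comp,
      ← Category.assoc, hpb.w, Category.assoc, w, comp_zero])
  have hmono : Mono (Subobject.pullbackπ i P) := by
    have : Mono (Subobject.pullbackπ i P ≫ P.arrow) := by rw [hpb.w]; infer_instance
    exact mono_of_mono _ P.arrow
  have : Mono T.f := hmono
  have : Epi T.g := inferInstanceAs (Epi (factorThruImageSubobject (P.arrow ≫ p)))
  have hex : T.Exact := by
    refine ShortComplex.exact_of_f_is_kernel _ (KernelFork.IsLimit.ofι' T.f T.zero fun {W} t ht => ?_)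
    have h1 : (t ≫ P.arrow) ≫ p = 0 := by
      rw [Category.assoc, ← imageSubobject_arrow_comp (P.arrow ≫ p), ← Category.assoc, ht, zero_comp]
    exact ⟨hpb.lift t (hS.exact.lift (t ≫ P.arrow) h1) (hS.exact.lift_f (t ≫ P.arrow) h1).symm,
      hpb.lift_fst _ _ _⟩
  have hT : T.ShortExact := ShortComplex.ShortExact.mk hex
  have h1 : Coh.IsCoh T.X₁ := CompDerived.isCoh_of_iso'
    (IsLimit.conePointUniqueUpToIso (kernelIsKernel T.g) hT.fIsKernel)
    (CompDerived.isCoh_of_iso' (kernelCompMono T.g (imageSubobject (P.arrow ≫ p)).arrow)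
      (QCohBase.isCoh_kernel _ hP hG.1))
  have h3 : Coh.IsCoh T.X₃ := CompDerived.isCoh_of_iso'
    (IsColimit.coconePointUniqueUpToIso (cokernelIsCokernel T.f) hT.gIsCokernel)
    (QCohBase.isCoh_cokernel T.f h1.1 hP)
  exact euler_twist_add hL T hT h1 hP h3 m

theorem parHilb_add (hL : PicF.IsInvertible L) {F E G : X.Modules} (hF : Coh.IsCoh F) (hG : Coh.IsCoh G)
    (i : F ⟶ E) (p : E ⟶ G) [Epi p] (𝓕 : ParSh.Str F) (𝓔 : ParSh.Str E) (𝓖 : ParSh.Str G)
    (hext : ParSh.IsParExt i p 𝓕 𝓔 𝓖)
    (hcoh : ∀ j, Coh.IsCoh ((𝓔.piece j : Subobject E) : X.Modules))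
    (hbot : Coh.IsCoh ((𝓔.bot : Subobject E) : X.Modules)) (m : ℕ) :
    𝓕.parHilb k X L m + 𝓖.parHilb k X L m = 𝓔.parHilb k X L m := by
  obtain ⟨w, hS, rfl, rfl⟩ := hext
  have key : ∀ P : Subobject E, Coh.IsCoh (P : X.Modules) →
      (Curv2.euler k X (ShStab.twist X L (P : X.Modules) m) : ℝ) =
      (Curv2.euler k X (ShStab.twist X L (((Subobject.pullback i).obj P : Subobject F) : X.Modules) m) : ℝ) +
      (Curv2.euler k X (ShStab.twist X L ((imageSubobject (P.arrow ≫ p) : Subobject G) : X.Modules) m) : ℝ) :=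
    fun P hP => by exact_mod_cast euler_twist_subobject hL hF hG i p w hS P hP m
  have hX : ∀ j, Coh.IsCoh ((𝓔.pieceX j : Subobject E) : X.Modules) := fun j => by
    induction j using Fin.lastCases with
    | last => rw [𝓔.pieceX_last]; exact hbot
    | cast j => rw [𝓔.pieceX_castSucc]; exact hcoh j
  have hi : ∀ j : Fin (𝓔.l + 2), (𝓔.induced i).pieceX j = (Subobject.pullback i).obj (𝓔.pieceX j) := fun j => by
    induction j using Fin.lastCases with
    | last => rw [𝓔.pieceX_last]; exact (𝓔.induced i).pieceX_last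
    | cast j => rw [𝓔.pieceX_castSucc]; exact (𝓔.induced i).pieceX_castSucc j
  have hp : ∀ j : Fin (𝓔.l + 2), (𝓔.coinduced p).pieceX j = imageSubobject ((𝓔.pieceX j).arrow ≫ p) := fun j => by
    induction j using Fin.lastCases with
    | last => rw [𝓔.pieceX_last]; exact (𝓔.coinduced p).pieceX_last
    | cast j => rw [𝓔.pieceX_castSucc]; exact (𝓔.coinduced p).pieceX_castSucc j
  simp only [ParSh.Str.parHilb, ParSh.Str.parSum]
  show (Curv2.euler k X (ShStab.twist X L (((Subobject.pullback i).obj 𝓔.bot : Subobject F) : X.Modules) m) : ℝ) +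
      (∑ j : Fin (𝓔.l + 1), 𝓔.wt j *
        ((Curv2.euler k X (ShStab.twist X L (((Subobject.pullback i).obj (𝓔.piece j) : Subobject F) : X.Modules) m) : ℝ) -
          Curv2.euler k X (ShStab.twist X L (((𝓔.induced i).pieceX j.succ : Subobject F) : X.Modules) m))) +
    ((Curv2.euler k X (ShStab.twist X L ((imageSubobject (𝓔.bot.arrow ≫ p) : Subobject G) : X.Modules) m) : ℝ) +
      (∑ j : Fin (𝓔.l + 1), 𝓔.wt j *
        ((Curv2.euler k X (ShStab.twist X L ((imageSubobject ((𝓔.piece j).arrow ≫ p) : Subobject G) : X.Modules) m) : ℝ) -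
          Curv2.euler k X (ShStab.twist X L (((𝓔.coinduced p).pieceX j.succ : Subobject G) : X.Modules) m)))) = _
  rw [key _ hbot, add_add_add_comm, ← Finset.sum_add_distrib]
  congr 1
  refine Finset.sum_congr rfl fun j _ => ?_
  rw [key _ (hcoh j), key _ (hX j.succ), hi, hp]
  ring

end Groth.Agent.ParHilbLib
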